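import Groth.Agent.LocCoh.K162.ExtHom
import Groth.Agent.Localalg.OldExt
import Groth.Agent.S5163
import Groth.Agent.S7038

/-!
# Vanishing of `H^i_J(G)` below `n` and vanishing of `Ext^i(F, G)`

`A` Noetherian, `J` an ideal, `G` any module.
* `ext_subsingleton_of_H`: `H^i_J(G) = 0` for `i < n` implies `Ext^i(F, G) = 0` for `i < n`, `F` finite
  supported in `V(J)`.
* `H_subsingleton_of_ext`: the converse for one `F` with support `V(J)`.
* `homEquiv`: `Ext^n(F, G) ≃ Hom(F, H^n_J(G))` if `H^i_J(G) = 0` for `i < n`.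
-/

set_option autoImplicit false
universe u

open CategoryTheory Abelian Groth.Agent.Localalg.LCBasic K162.ExtHom

namespace K162.ExtVan

variable {A : Type u} [CommRing A]

lemma support_of_killed (J : Ideal A) (F : Type u) [AddCommGroup F] [Module A F] (k : ℕ)
    (h : ∀ a ∈ J ^ k, ∀ x : F, a • x = 0) :
    Module.support A F ⊆ PrimeSpectrum.zeroLocus (J : Set A) :=
  (Groth.Agent.S7038.result J F).1 fun x => ⟨k, fun a ha => h a ha x⟩

lemma exists_killed [IsNoetherianRing A] (J : Ideal A) (F : Type u) [AddCommGroup F] [Module A F]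
    [Module.Finite A F] (h : Module.support A F ⊆ PrimeSpectrum.zeroLocus (J : Set A)) :
    ∃ k : ℕ, ∀ a ∈ J ^ k, ∀ x : F, a • x = 0 := by
  rw [Module.support_eq_zeroLocus, PrimeSpectrum.zeroLocus_subset_zeroLocus_iff] at h
  obtain ⟨k, hk⟩ := Ideal.exists_pow_le_of_le_radical_of_fg h (IsNoetherian.noetherian J)
  exact ⟨k, fun a ha x => Module.mem_annihilator.mp (hk ha) x⟩

variable [IsNoetherianRing A] (J : Ideal A) (G : Type u) [AddCommGroup G] [Module A G]

theorem ext_subsingleton_of_H (n : ℕ) (h : ∀ i : ℕ, i < n → Subsingleton (LocCoh.H J i G)) :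
    ∀ i : ℕ, i < n → ∀ (F : Type u) [AddCommGroup F] [Module A F], Module.Finite A F →
      (∃ k : ℕ, ∀ a ∈ J ^ k, ∀ x : F, a • x = 0) →
      Subsingleton (Ext.{u} (ModuleCat.of A F) (ModuleCat.of A G) i) := by
  intro i
  induction i with
  | zero =>
    intro hi F _ _ hF hk
    obtain ⟨k, hk⟩ := hk
    have hV : Van J G 0 := fun F' _ _ _ _ i hi => by omega
    have := h 0 hi
    exact (Phi_injective hV k hk).subsingleton
  | succ i ih =>
    intro hi F _ _ hF hk
    obtain ⟨k, hk⟩ := hk
    have hV : Van J G (i + 1) := fun F' _ _ hF' hk' i' hi' => by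
      obtain rfl : i' = i := by omega
      exact ih (by omega) F' hF' hk'
    have := h (i + 1) hi
    exact (Phi_injective hV k hk).subsingleton

/-- The vanishing hypothesis of `ExtHom` holds if `H^i_J(G) = 0` for `i < n`. -/
theorem van_of_H (n : ℕ) (h : ∀ i : ℕ, i < n → Subsingleton (LocCoh.H J i G)) : Van J G n :=
  fun F _ _ hF hk i hi => ext_subsingleton_of_H J G n h i (by omega) F hF hk

/-- `Ext^n(F, G) ≃ Hom(F, H^n_J(G))` if `H^i_J(G) = 0` for `i < n`. -/
noncomputable def homEquiv (n : ℕ) (h : ∀ i : ℕ, i < n → Subsingleton (LocCoh.H J i G))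
    (F : Type u) [AddCommGroup F] [Module A F] [Module.Finite A F] (k : ℕ)
    (hk : ∀ a ∈ J ^ k, ∀ x : F, a • x = 0) :
    Ext.{u} (ModuleCat.of A F) (ModuleCat.of A G) n ≃ₗ[A] (F →ₗ[A] LocCoh.H J n G) :=
  LinearEquiv.ofBijective (Phi G n hk) (Phi_bijective (van_of_H J G n h) k hk)

theorem H_subsingleton_of_ext (n : ℕ) (F : Type u) [AddCommGroup F] [Module A F]
    [Module.Finite A F] (hF : Module.support A F = PrimeSpectrum.zeroLocus (J : Set A))
    (h : ∀ i : ℕ, i < n → Subsingleton (Ext.{u} (ModuleCat.of A F) (ModuleCat.of A G) i)) :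
    ∀ i : ℕ, i < n → Subsingleton (LocCoh.H J i G) := by
  obtain ⟨k, hk⟩ := exists_killed J F hF.le
  intro i
  induction i using Nat.strong_induction_on with
  | _ i ih =>
    intro hi
    have hV : Van J G i := van_of_H J G i fun j hj => ih j hj (by omega)
    have h1 := h i hi
    have h2 : Subsingleton (F →ₗ[A] LocCoh.H J i G) :=
      (Phi_surjective hV k hk).subsingleton
    refine Groth.Agent.S5163.result A F (LocCoh.H J i G) ?_ h2
    rw [hF]
    exact (Groth.Agent.S7038.result J _).1 (isPowerTorsion_H J i)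

end K162.ExtVan
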