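import Groth.Agent.Localalg.LCBasic
import Mathlib.Algebra.Homology.DerivedCategory.Ext.Linear
import Mathlib.Algebra.Homology.DerivedCategory.Ext.ExactSequences

/-!
# `Ext^n(F, G) ≅ Hom(F, H^n_J(G))` for finite `F` supported in `V(J)`

`A` Noetherian, `J` an ideal, `G` any module, `n` such that `Ext^{n-1}(F', G) = 0` for every finite `F'`
killed by a power of `J`.  For every finite `F` killed by `J^k` the map
`Φ : Ext^n(F, G) → Hom(F, H^n_J(G))`, `Φ x f = toH (f^* x)` is bijective.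

* `pb f : Ext^n(F', G) →ₗ Ext^n(F, G)` : pullback along `f : F →ₗ F'`.
* `Phi`, `Phi_naturality`, `Phi_bijective`.
-/

set_option autoImplicit false
universe u

open CategoryTheory Abelian Groth.Agent.Localalg.LCBasic

namespace K162.ExtHom

section Pb

variable {A : Type u} [CommRing A] {F F' F'' : Type u} [AddCommGroup F] [Module A F]
  [AddCommGroup F'] [Module A F'] [AddCommGroup F''] [Module A F'']
  {G : Type u} [AddCommGroup G] [Module A G] {n : ℕ}

/-- Pullback of Ext classes along a linear map. -/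
noncomputable def pb (f : F →ₗ[A] F') :
    Ext.{u} (ModuleCat.of A F') (ModuleCat.of A G) n →ₗ[A]
      Ext.{u} (ModuleCat.of A F) (ModuleCat.of A G) n :=
  (Ext.mk₀ (ModuleCat.ofHom f)).precompOfLinear A (ModuleCat.of A G) (zero_add n)

lemma pb_apply (f : F →ₗ[A] F') (x : Ext.{u} (ModuleCat.of A F') (ModuleCat.of A G) n) :
    pb f x = (Ext.mk₀ (ModuleCat.ofHom f)).comp x (zero_add n) := rfl

lemma pb_comp (f : F →ₗ[A] F') (g : F' →ₗ[A] F'')
    (x : Ext.{u} (ModuleCat.of A F'') (ModuleCat.of A G) n) :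
    pb (g ∘ₗ f) x = pb f (pb g x) := by
  rw [pb_apply, pb_apply, pb_apply, Ext.mk₀_comp_mk₀_assoc]
  rfl

lemma pb_id (x : Ext.{u} (ModuleCat.of A F) (ModuleCat.of A G) n) :
    pb (LinearMap.id : F →ₗ[A] F) x = x := by
  rw [pb_apply]
  exact Ext.mk₀_id_comp x

lemma pb_add (f g : F →ₗ[A] F') (x : Ext.{u} (ModuleCat.of A F') (ModuleCat.of A G) n) :
    pb (f + g) x = pb f x + pb g x := by
  rw [pb_apply, pb_apply, pb_apply, ← Ext.add_comp, ← Ext.mk₀_add]
  rfl

lemma pb_zero (x : Ext.{u} (ModuleCat.of A F') (ModuleCat.of A G) n) :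
    pb (0 : F →ₗ[A] F') x = 0 := by
  rw [pb_apply, ModuleCat.ofHom_zero, Ext.mk₀_zero, Ext.zero_comp]

lemma pb_smul (r : A) (f : F →ₗ[A] F') (x : Ext.{u} (ModuleCat.of A F') (ModuleCat.of A G) n) :
    pb (r • f) x = r • pb f x := by
  rw [pb_apply, pb_apply, ← Ext.smul_comp, ← Ext.mk₀_smul]
  rfl

lemma pb_sum {ι : Type*} (s : Finset ι) (f : ι → (F →ₗ[A] F'))
    (x : Ext.{u} (ModuleCat.of A F') (ModuleCat.of A G) n) :
    pb (∑ i ∈ s, f i) x = ∑ i ∈ s, pb (f i) x := by
  classical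
  induction s using Finset.induction_on with
  | empty => rw [Finset.sum_empty, Finset.sum_empty, pb_zero]
  | insert a s ha ih => rw [Finset.sum_insert ha, Finset.sum_insert ha, pb_add, ih]

/-- A short exact sequence of modules gives one in `ModuleCat`. -/
lemma shortExact (f : F →ₗ[A] F') (g : F' →ₗ[A] F'') (hf : Function.Injective f)
    (hg : Function.Surjective g) (h : Function.Exact f g) :
    (ShortComplex.mk (ModuleCat.ofHom f) (ModuleCat.ofHom g) (by
      ext x; exact (h _).mpr ⟨x, rfl⟩)).ShortExact :=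
  { exact := (ShortComplex.ShortExact.moduleCat_exact_iff_function_exact _).mpr h
    mono_f := (ModuleCat.mono_iff_injective _).mpr hf
    epi_g := (ModuleCat.epi_iff_surjective _).mpr hg }

/-- Middle exactness. -/
lemma exists_of_pb_eq_zero (f : F →ₗ[A] F') (g : F' →ₗ[A] F'') (hf : Function.Injective f)
    (hg : Function.Surjective g) (h : Function.Exact f g)
    (x : Ext.{u} (ModuleCat.of A F') (ModuleCat.of A G) n) (hx : pb f x = 0) :
    ∃ y : Ext.{u} (ModuleCat.of A F'') (ModuleCat.of A G) n, pb g y = x :=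
  Ext.contravariant_sequence_exact₂ (shortExact f g hf hg h) (ModuleCat.of A G) x hx

/-- `g^*` is injective when `Ext^{n-1}` of the kernel vanishes. -/
lemma pb_injective (g : F' →ₗ[A] F'') (hg : Function.Surjective g)
    (hK : ∀ i : ℕ, i + 1 = n → Subsingleton (Ext.{u} (ModuleCat.of A (LinearMap.ker g))
      (ModuleCat.of A G) i)) :
    Function.Injective (pb (n := n) (G := G) g) := by
  rw [injective_iff_map_eq_zero]
  intro x hx
  have hS := shortExact (LinearMap.ker g).subtype g (LinearMap.ker g).subtype_injective hg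
    (LinearMap.exact_subtype_ker_map g)
  rcases n with _ | n
  · have := hS.epi_g
    apply Ext.precomp_mk₀_injective_of_epi (ModuleCat.of A G) (ModuleCat.ofHom g)
    rw [map_zero]
    exact hx
  · obtain ⟨z, hz⟩ := Ext.contravariant_sequence_exact₃ hS (ModuleCat.of A G) x hx
      (n₀ := n) (by omega)
    have hz0 : z = 0 := (hK n rfl).elim _ _
    rw [← hz, hz0, Ext.comp_zero]

end Pb

section Phi

variable {A : Type u} [CommRing A] (J : Ideal A) (k : ℕ)
  {F F' : Type u} [AddCommGroup F] [Module A F] [AddCommGroup F'] [Module A F']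
  (G : Type u) [AddCommGroup G] [Module A G] (n : ℕ)

/-- The map `A/J^k → F` attached to `f : F`, when `J^k F = 0`. -/
noncomputable def pt (hF : ∀ a ∈ J ^ k, ∀ x : F, a • x = 0) (f : F) : (A ⧸ J ^ k) →ₗ[A] F :=
  (J ^ k).liftQ (LinearMap.toSpanSingleton A F f) (by
    intro a ha
    rw [LinearMap.mem_ker, LinearMap.toSpanSingleton_apply]
    exact hF a ha f)

variable {J k}

@[simp] lemma pt_mk (hF : ∀ a ∈ J ^ k, ∀ x : F, a • x = 0) (f : F) (a : A) :
    pt J k hF f (Ideal.Quotient.mk (J ^ k) a) = a • f := rfl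

lemma quot_hom_ext {X : Type u} [AddCommGroup X] [Module A X] {f g : (A ⧸ J ^ k) →ₗ[A] X}
    (h : f (Ideal.Quotient.mk (J ^ k) 1) = g (Ideal.Quotient.mk (J ^ k) 1)) : f = g := by
  refine Submodule.linearMap_qext _ (LinearMap.ext_ring ?_)
  exact h

lemma pt_add (hF : ∀ a ∈ J ^ k, ∀ x : F, a • x = 0) (f g : F) :
    pt J k hF (f + g) = pt J k hF f + pt J k hF g := by
  apply quot_hom_ext
  rw [LinearMap.add_apply, pt_mk, pt_mk, pt_mk, smul_add]

lemma pt_smul (hF : ∀ a ∈ J ^ k, ∀ x : F, a • x = 0) (r : A) (f : F) :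
    pt J k hF (r • f) = r • pt J k hF f := by
  apply quot_hom_ext
  rw [LinearMap.smul_apply, pt_mk, pt_mk, one_smul, one_smul]

lemma comp_pt (hF : ∀ a ∈ J ^ k, ∀ x : F, a • x = 0) (hF' : ∀ a ∈ J ^ k, ∀ x : F', a • x = 0)
    (g : F →ₗ[A] F') (f : F) : g ∘ₗ pt J k hF f = pt J k hF' (g f) := by
  apply quot_hom_ext
  rw [LinearMap.comp_apply, pt_mk, pt_mk, one_smul, one_smul]

lemma pt_eq (hF : ∀ a ∈ J ^ k, ∀ x : F, a • x = 0) (g : (A ⧸ J ^ k) →ₗ[A] F) :
    pt J k hF (g (Ideal.Quotient.mk (J ^ k) 1)) = g := by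
  apply quot_hom_ext
  rw [pt_mk, one_smul]

/-- The map `Ext^n(F, G) → Hom(F, H^n_J(G))`. -/
noncomputable def Phi (hF : ∀ a ∈ J ^ k, ∀ x : F, a • x = 0) :
    Ext.{u} (ModuleCat.of A F) (ModuleCat.of A G) n →ₗ[A] (F →ₗ[A] LocCoh.H J n G) where
  toFun x :=
    { toFun := fun f => toH J G k n (pb (pt J k hF f) x)
      map_add' := fun f g => by rw [pt_add, pb_add, map_add]
      map_smul' := fun r f => by rw [pt_smul, pb_smul, map_smul, RingHom.id_apply] }
  map_add' x y := by
    ext f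
    simp only [LinearMap.coe_mk, AddHom.coe_mk, map_add, LinearMap.add_apply]
  map_smul' r x := by
    ext f
    simp only [LinearMap.coe_mk, AddHom.coe_mk, map_smul, LinearMap.smul_apply, RingHom.id_apply]

variable {G n}

lemma Phi_apply (hF : ∀ a ∈ J ^ k, ∀ x : F, a • x = 0)
    (x : Ext.{u} (ModuleCat.of A F) (ModuleCat.of A G) n) (f : F) :
    Phi G n hF x f = toH J G k n (pb (pt J k hF f) x) := rfl

lemma Phi_pb (hF : ∀ a ∈ J ^ k, ∀ x : F, a • x = 0) (hF' : ∀ a ∈ J ^ k, ∀ x : F', a • x = 0)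
    (g : F →ₗ[A] F') (x : Ext.{u} (ModuleCat.of A F') (ModuleCat.of A G) n) :
    Phi G n hF (pb g x) = Phi G n hF' x ∘ₗ g := by
  ext f
  rw [LinearMap.comp_apply, Phi_apply, Phi_apply, ← pb_comp, comp_pt hF hF']

end Phi

section Main

variable {A : Type u} [CommRing A] [IsNoetherianRing A] (J : Ideal A)
  (G : Type u) [AddCommGroup G] [Module A G] (n : ℕ)

/-- The vanishing hypothesis in degree `n - 1`. -/
def Van : Prop := ∀ (F : Type u) [AddCommGroup F] [Module A F], Module.Finite A F →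
  (∃ k : ℕ, ∀ a ∈ J ^ k, ∀ x : F, a • x = 0) → ∀ i : ℕ, i + 1 = n →
    Subsingleton (Ext.{u} (ModuleCat.of A F) (ModuleCat.of A G) i)

variable {J G n}

omit [IsNoetherianRing A] in
lemma quot_killed (k : ℕ) : ∀ a ∈ J ^ k, ∀ x : A ⧸ J ^ k, a • x = 0 := by
  intro a ha x
  obtain ⟨b, rfl⟩ := Ideal.Quotient.mk_surjective x
  rw [Algebra.smul_def, Ideal.Quotient.algebraMap_eq, ← map_mul, Ideal.Quotient.eq_zero_iff_mem]
  exact Ideal.mul_mem_right _ _ ha

lemma pb_injective_of_van (hV : Van J G n) {F F' : Type u} [AddCommGroup F] [Module A F]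
    [AddCommGroup F'] [Module A F'] [Module.Finite A F] (k : ℕ)
    (hF : ∀ a ∈ J ^ k, ∀ x : F, a • x = 0) (g : F →ₗ[A] F') (hg : Function.Surjective g) :
    Function.Injective (pb (n := n) (G := G) g) :=
  pb_injective g hg fun i hi => hV (LinearMap.ker g) inferInstance
    ⟨k, fun a ha x => Subtype.ext (hF a ha x)⟩ i hi

/-- The canonical maps `Ext^n(A/J^k, G) → H^n_J(G)` are injective. -/
lemma toH_injective (hV : Van J G n) (k : ℕ) : Function.Injective (toH J G k n) := by
  rw [injective_iff_map_eq_zero]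
  intro x hx
  obtain ⟨m, hkm, hm⟩ := (toH_eq_zero_iff J k n x).mp hx
  refine (injective_iff_map_eq_zero _).mp (pb_injective_of_van hV (F := A ⧸ J ^ m) (F' := A ⧸ J ^ k) m
    (quot_killed m) (Submodule.mapQ (J ^ m) (J ^ k) LinearMap.id (Ideal.pow_le_pow_right hkm)) ?_) x hm
  intro y
  obtain ⟨y, rfl⟩ := Submodule.mkQ_surjective _ y
  exact ⟨Submodule.mkQ _ y, rfl⟩

/-- A class on a finite module killed by `J^k` vanishes if all its pullbacks to `A/J^k` do. -/
lemma eq_zero_of_forall_pt (hV : Van J G n) {F : Type u} [AddCommGroup F] [Module A F]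
    [Module.Finite A F] (k : ℕ) (hF : ∀ a ∈ J ^ k, ∀ x : F, a • x = 0)
    (x : Ext.{u} (ModuleCat.of A F) (ModuleCat.of A G) n)
    (hx : ∀ f : F, pb (pt J k hF f) x = 0) : x = 0 := by
  classical
  obtain ⟨r, s, hs⟩ := Module.Finite.exists_fin (R := A) (M := F)
  let p : (Fin r → A ⧸ J ^ k) →ₗ[A] F := LinearMap.lsum A (fun _ => A ⧸ J ^ k) A
    (fun i => pt J k hF (s i))
  have hp : Function.Surjective p := by
    rw [← LinearMap.range_eq_top, eq_top_iff, ← hs, Submodule.span_le]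
    rintro _ ⟨i, rfl⟩
    refine ⟨Pi.single i (Ideal.Quotient.mk _ 1), ?_⟩
    rw [LinearMap.lsum_piSingle, pt_mk, one_smul]
  have hkill : ∀ a ∈ J ^ k, ∀ x : Fin r → A ⧸ J ^ k, a • x = 0 := fun a ha x =>
    funext fun i => quot_killed k a ha (x i)
  refine (injective_iff_map_eq_zero _).mp (pb_injective_of_van hV k hkill p hp) x ?_
  have hid : (LinearMap.id : (Fin r → A ⧸ J ^ k) →ₗ[A] _) =
      ∑ i : Fin r, LinearMap.single A (fun _ => A ⧸ J ^ k) i ∘ₗ LinearMap.proj i := by
    ext1 i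
    ext j
    simp [Finset.sum_apply, Pi.single_apply]
  rw [← pb_id (pb p x), hid, pb_sum]
  refine Finset.sum_eq_zero fun i _ => ?_
  rw [pb_comp, ← pb_comp (LinearMap.single A (fun _ => A ⧸ J ^ k) i) p]
  have : p ∘ₗ LinearMap.single A (fun _ => A ⧸ J ^ k) i = pt J k hF (s i) := by
    refine LinearMap.ext fun y => ?_
    rw [LinearMap.comp_apply, LinearMap.coe_single, LinearMap.lsum_piSingle]
  rw [this, hx, map_zero]

theorem Phi_injective (hV : Van J G n) {F : Type u} [AddCommGroup F] [Module A F]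
    [Module.Finite A F] (k : ℕ) (hF : ∀ a ∈ J ^ k, ∀ x : F, a • x = 0) :
    Function.Injective (Phi G n hF) := by
  rw [injective_iff_map_eq_zero]
  intro x hx
  refine eq_zero_of_forall_pt hV k hF x fun f => ?_
  apply toH_injective hV k
  rw [map_zero]
  exact LinearMap.congr_fun hx f

/-- Elements of `H^n_J(G)` killed by `J^k` come from `Ext^n(A/J^k, G)`. -/
lemma exists_toH_of_killed (hV : Van J G n) (k : ℕ) (y : LocCoh.H J n G)
    (hy : ∀ a ∈ J ^ k, a • y = 0) : ∃ x, toH J G k n x = y := by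
  obtain ⟨m', x', hx'⟩ := toH_exists J n y
  obtain ⟨m, hkm, x, rfl⟩ : ∃ (m : ℕ) (_ : k ≤ m) (x : _), toH J G m n x = y :=
    ⟨max k m', le_max_left _ _, _, (toH_transition J (le_max_right k m') n x').trans hx'⟩
  -- restrict to the kernel of `A/J^m → A/J^k`
  let q : (A ⧸ J ^ m) →ₗ[A] (A ⧸ J ^ k) :=
    Submodule.mapQ (J ^ m) (J ^ k) LinearMap.id (Ideal.pow_le_pow_right hkm)
  have hq : Function.Surjective q := by
    intro y
    obtain ⟨y, rfl⟩ := Submodule.mkQ_surjective _ y
    exact ⟨Submodule.mkQ _ y, rfl⟩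
  have hK : ∀ a ∈ J ^ m, ∀ x : LinearMap.ker q, a • x = 0 := fun a ha x =>
    Subtype.ext (quot_killed m a ha x.1)
  have hres : pb (LinearMap.ker q).subtype x = 0 := by
    refine eq_zero_of_forall_pt hV m hK _ fun f => ?_
    rw [← pb_comp]
    obtain ⟨⟨b, hb⟩, rfl⟩ : ∃ b : {b : A // b ∈ J ^ k}, (⟨Ideal.Quotient.mk (J ^ m) b.1, by
        rw [LinearMap.mem_ker]
        change Ideal.Quotient.mk (J ^ k) b.1 = 0
        exact Ideal.Quotient.eq_zero_iff_mem.mpr b.2⟩ : LinearMap.ker q) = f := by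
      obtain ⟨f, hf⟩ := f
      obtain ⟨b, rfl⟩ := Ideal.Quotient.mk_surjective f
      rw [LinearMap.mem_ker] at hf
      exact ⟨⟨b, Ideal.Quotient.eq_zero_iff_mem.mp hf⟩, rfl⟩
    have h1 : (LinearMap.ker q).subtype ∘ₗ pt J m hK ⟨Ideal.Quotient.mk (J ^ m) b, by
        rw [LinearMap.mem_ker]
        change Ideal.Quotient.mk (J ^ k) b = 0
        exact Ideal.Quotient.eq_zero_iff_mem.mpr hb⟩ = b • LinearMap.id := by
      apply quot_hom_ext
      rw [LinearMap.comp_apply, pt_mk, one_smul, LinearMap.smul_apply, LinearMap.id_apply]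
      change Ideal.Quotient.mk (J ^ m) b = b • Ideal.Quotient.mk (J ^ m) 1
      rw [Algebra.smul_def, Ideal.Quotient.algebraMap_eq, ← map_mul, mul_one]
    rw [h1, pb_smul, pb_id]
    apply toH_injective hV m
    rw [map_smul, map_zero]
    exact hy b hb
  obtain ⟨z, hz⟩ := exists_of_pb_eq_zero (LinearMap.ker q).subtype q
    (LinearMap.ker q).subtype_injective hq (LinearMap.exact_subtype_ker_map q) x hres
  refine ⟨z, ?_⟩
  rw [← hz]
  exact (toH_transition J hkm n z).symm

theorem Phi_surjective (hV : Van J G n) {F : Type u} [AddCommGroup F] [Module A F]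
    [Module.Finite A F] (k : ℕ) (hF : ∀ a ∈ J ^ k, ∀ x : F, a • x = 0) :
    Function.Surjective (Phi G n hF) := by
  classical
  intro h
  obtain ⟨r, s, hs⟩ := Module.Finite.exists_fin (R := A) (M := F)
  let p : (Fin r → A ⧸ J ^ k) →ₗ[A] F := LinearMap.lsum A (fun _ => A ⧸ J ^ k) A
    (fun i => pt J k hF (s i))
  have hpi : ∀ i, p ∘ₗ LinearMap.single A (fun _ => A ⧸ J ^ k) i = pt J k hF (s i) := by
    intro i
    refine LinearMap.ext fun y => ?_
    rw [LinearMap.comp_apply, LinearMap.coe_single, LinearMap.lsum_piSingle]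
  have hp : Function.Surjective p := by
    rw [← LinearMap.range_eq_top, eq_top_iff, ← hs, Submodule.span_le]
    rintro _ ⟨i, rfl⟩
    refine ⟨Pi.single i (Ideal.Quotient.mk _ 1), ?_⟩
    rw [LinearMap.lsum_piSingle, pt_mk, one_smul]
  have hkill : ∀ a ∈ J ^ k, ∀ x : Fin r → A ⧸ J ^ k, a • x = 0 := fun a ha x =>
    funext fun i => quot_killed k a ha (x i)
  -- lifts of the values at the generators
  have hz : ∀ i, ∃ z, toH J G k n z = h (s i) := fun i =>
    exists_toH_of_killed hV k (h (s i)) fun a ha => by rw [← map_smul, hF a ha, map_zero]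
  choose z hz using hz
  let w : Ext.{u} (ModuleCat.of A (Fin r → A ⧸ J ^ k)) (ModuleCat.of A G) n :=
    ∑ i, pb (LinearMap.proj i) (z i)
  have hPz : ∀ i, Phi G n (quot_killed k) (z i) = h ∘ₗ pt J k hF (s i) := by
    intro i
    apply quot_hom_ext
    rw [LinearMap.comp_apply, pt_mk, one_smul, Phi_apply, ← hz i]
    have h1 : pt J k (quot_killed k) (Ideal.Quotient.mk (J ^ k) 1) =
        (LinearMap.id : (A ⧸ J ^ k) →ₗ[A] _) := by
      apply quot_hom_ext
      rw [pt_mk, one_smul, LinearMap.id_apply]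
    rw [h1, pb_id]
  have hw : Phi G n hkill w = h ∘ₗ p := by
    have h1 : ∀ i, Phi G n hkill (pb (LinearMap.proj i) (z i)) =
        (h ∘ₗ pt J k hF (s i)) ∘ₗ LinearMap.proj i := by
      intro i
      rw [Phi_pb hkill (quot_killed k) (LinearMap.proj i) (z i), hPz]
    rw [map_sum]
    simp_rw [h1]
    refine LinearMap.ext fun v => ?_
    have hpv : p v = ∑ i, pt J k hF (s i) (v i) := by
      change LinearMap.lsum A (fun _ => A ⧸ J ^ k) A (fun i => pt J k hF (s i)) v = _
      rw [LinearMap.lsum_apply, LinearMap.sum_apply]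
      rfl
    rw [LinearMap.sum_apply, LinearMap.comp_apply, hpv, map_sum]
    rfl
  -- `w` descends to `F`
  have hK : ∀ a ∈ J ^ k, ∀ x : LinearMap.ker p, a • x = 0 := fun a ha x =>
    Subtype.ext (hkill a ha x.1)
  have hres : pb (LinearMap.ker p).subtype w = 0 := by
    apply Phi_injective hV k hK
    rw [Phi_pb hK hkill, hw, map_zero]
    refine LinearMap.ext fun v => ?_
    rw [LinearMap.comp_apply, LinearMap.comp_apply, Submodule.subtype_apply,
      LinearMap.mem_ker.mp v.2, map_zero, LinearMap.zero_apply]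
  obtain ⟨x, hx⟩ := exists_of_pb_eq_zero (LinearMap.ker p).subtype p
    (LinearMap.ker p).subtype_injective hp (LinearMap.exact_subtype_ker_map p) w hres
  refine ⟨x, ?_⟩
  have h2 : Phi G n hF x ∘ₗ p = h ∘ₗ p := by
    rw [← Phi_pb hkill hF, hx, hw]
  ext f
  obtain ⟨v, rfl⟩ := hp f
  exact LinearMap.congr_fun h2 v

theorem Phi_bijective (hV : Van J G n) {F : Type u} [AddCommGroup F] [Module A F]
    [Module.Finite A F] (k : ℕ) (hF : ∀ a ∈ J ^ k, ∀ x : F, a • x = 0) :
    Function.Bijective (Phi G n hF) :=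
  ⟨Phi_injective hV k hF, Phi_surjective hV k hF⟩

end Main

end K162.ExtHom
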