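import Groth.Agent.Ega3A.KoszulDirLim
import Groth.Agent.LocCoh.K171.CechRows

/-!
# The direct limit of Koszul cohomology is the cohomology of the extended Čech complex

* `TC M fs` : iterated mapping cones of localisation maps.
* `be n fs : koszulCx M (fs^n) ⟶ TC M fs`, `equivTC : koszulHLim fs M p ≃ₗ H^{p - r}(TC M fs)`.
* `nonempty_iso` : `TC M fs ≅ (extCech M fs)⟦r⟧`.
* `nonempty_equiv : koszulHLim fs M p ≃ₗ extCechH fs M p`.
-/

set_option autoImplicit false
universe u

open CategoryTheory CategoryTheory.Limits CochainComplex HomComplex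
  Groth.Agent.Ega3A.ModHomology Groth.Agent.Ega3A.ConeElements Groth.Agent.Ega3A.ExtCech CohIII DerCA

namespace K162.KoszulLim

variable {R : Type u} [CommRing R]

/-- The localisation of a complex at the powers of `f`. -/
noncomputable abbrev lo (f : R) (K : DRing.Cx R) : DRing.Cx R := (locCx (Submonoid.powers f)).obj K

/-- The localisation map. -/
noncomputable abbrev un (f : R) (K : DRing.Cx R) : K ⟶ lo f K := locCxUnit (Submonoid.powers f) K

/-- Iterated mapping cones of localisation maps. -/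
noncomputable def TC (M : ModuleCat.{u} R) : List R → DRing.Cx R
  | [] => (HomologicalComplex.single (ModuleCat.{u} R) (ComplexShape.up ℤ) 0).obj M
  | f :: fs => mappingCone (un f (TC M fs))

lemma smul_bij (f : R) (n : ℕ) (N : Type u) [AddCommGroup N] [Module R N] :
    Function.Bijective (fun x : LocalizedModule (Submonoid.powers f) N => f ^ n • x) := by
  have h := IsLocalizedModule.map_units (S := Submonoid.powers f)
    (LocalizedModule.mkLinearMap (Submonoid.powers f) N) ⟨f ^ n, n, rfl⟩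
  rw [Module.End.isUnit_iff] at h
  exact h

lemma isIso_smul (f : R) (n : ℕ) (K : DRing.Cx R) : IsIso (f ^ n • 𝟙 (lo f K)) := by
  have : ∀ i, IsIso ((f ^ n • 𝟙 (lo f K)).f i) := by
    intro i
    rw [ConcreteCategory.isIso_iff_bijective]
    exact smul_bij f n (K.X i)
  exact HomologicalComplex.Hom.isIso_of_components _

/-- Division by `f ^ n` on `K_f`. -/
noncomputable def dv (f : R) (n : ℕ) (K : DRing.Cx R) : lo f K ⟶ lo f K :=
  @inv _ _ _ _ (f ^ n • 𝟙 (lo f K)) (isIso_smul f n K)

lemma smul_dv (f : R) (n : ℕ) (K : DRing.Cx R) : f ^ n • dv f n K = 𝟙 _ := by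
  have := isIso_smul f n K
  have h := IsIso.inv_hom_id (f ^ n • 𝟙 (lo f K))
  rw [Linear.comp_smul, Category.comp_id] at h
  exact h

lemma smul_dv_sub (f : R) {n m : ℕ} (h : n ≤ m) (K : DRing.Cx R) :
    f ^ (m - n) • dv f m K = dv f n K := by
  have := isIso_smul f n K
  rw [← cancel_epi (f ^ n • 𝟙 (lo f K)), Linear.smul_comp, Linear.smul_comp, Category.id_comp,
    Category.id_comp, smul_dv, smul_smul, ← pow_add, Nat.add_sub_cancel' h, smul_dv]

lemma be_comm (M : ModuleCat.{u} R) (n : ℕ) (f : R) (fs : List R)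
    (b : koszulCx M (fs.map (· ^ n)) ⟶ TC M fs) :
    (f ^ n • 𝟙 (koszulCx M (fs.map (· ^ n)))) ≫ b ≫ un f (TC M fs) ≫ dv f n (TC M fs) =
      b ≫ un f (TC M fs) := by
  rw [Linear.smul_comp, Category.id_comp, ← Linear.comp_smul, ← Linear.comp_smul, smul_dv,
    Category.comp_id]

/-- The comparison map. -/
noncomputable def be (M : ModuleCat.{u} R) (n : ℕ) :
    ∀ fs : List R, koszulCx M (fs.map (· ^ n)) ⟶ TC M fs
  | [] => 𝟙 _
  | f :: fs => mappingCone.map (f ^ n • 𝟙 (koszulCx M (fs.map (· ^ n)))) (un f (TC M fs))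
      (be M n fs) (be M n fs ≫ un f (TC M fs) ≫ dv f n (TC M fs)) (be_comm M n f fs (be M n fs))

lemma trans_be (M : ModuleCat.{u} R) {n m : ℕ} (h : n ≤ m) (fs : List R) :
    koszulTrans M n m h fs ≫ be M m fs = be M n fs := by
  induction fs with
  | nil =>
    simp only [koszulTrans, be]
    exact Category.id_comp _
  | cons f fs ih =>
    refine (mappingCone.map_comp _ _ _ _ _ _ _ _ _).symm.trans ?_
    congr 1
    rw [Linear.smul_comp, ← Category.assoc, ih, ← Linear.comp_smul, ← Linear.comp_smul,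
      smul_dv_sub f h]

lemma trans_be_apply (M : ModuleCat.{u} R) {n m : ℕ} (h : n ≤ m) (fs : List R) (q : ℤ)
    (x : (koszulCx M (fs.map (· ^ n))).X q) :
    ((be M m fs).f q).hom (((koszulTrans M n m h fs).f q).hom x) = ((be M n fs).f q).hom x :=
  congr(($(trans_be M h fs).f q).hom x)

lemma dv_apply (f : R) (n : ℕ) (K : DRing.Cx R) (q : ℤ) (y : (lo f K).X q) :
    f ^ n • ((dv f n K).f q).hom y = y := by
  have h := congr(($(smul_dv f n K).f q).hom y)
  exact h

lemma dv_eq_iff (f : R) (n : ℕ) (K : DRing.Cx R) (q : ℤ) (y z : (lo f K).X q) :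
    ((dv f n K).f q).hom y = z ↔ y = f ^ n • z := by
  constructor
  · rintro rfl
    exact (dv_apply f n K q y).symm
  · intro h
    apply (smul_bij f n (K.X q)).1
    change f ^ n • ((dv f n K).f q).hom y = f ^ n • z
    rw [dv_apply, h]

theorem be_surj (M : ModuleCat.{u} R) (fs : List R) (q : ℤ) (y : (TC M fs).X q) :
    ∃ (n : ℕ) (x : (koszulCx M (fs.map (· ^ n))).X q), ((be M n fs).f q).hom x = y := by
  induction fs generalizing q with
  | nil => exact ⟨0, y, rfl⟩
  | cons f fs ih =>
    obtain ⟨n₁, x₁, h₁⟩ := ih (q + 1) (cfst (un f (TC M fs)) rfl y)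
    -- the second component
    obtain ⟨k, t, ht⟩ : ∃ (k : ℕ) (t : (TC M fs).X q),
        f ^ k • csnd (un f (TC M fs)) q y = ((un f (TC M fs)).f q).hom t := by
      obtain ⟨⟨t, s⟩, hts⟩ := IsLocalizedModule.surj (Submonoid.powers f)
        (LocalizedModule.mkLinearMap (Submonoid.powers f) ((TC M fs).X q))
        (csnd (un f (TC M fs)) q y)
      obtain ⟨s, k, rfl⟩ := s
      exact ⟨k, t, hts⟩
    obtain ⟨n₂, x₂, h₂⟩ := ih q t
    let n := max (max n₁ n₂) k
    have hn₁ : n₁ ≤ n := (le_max_left _ _).trans (le_max_left _ _)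
    have hn₂ : n₂ ≤ n := (le_max_right _ _).trans (le_max_left _ _)
    have hk : k ≤ n := le_max_right _ _
    refine ⟨n, cinl (f ^ n • 𝟙 (koszulCx M (fs.map (· ^ n)))) rfl
      (((koszulTrans M n₁ n hn₁ fs).f (q + 1)).hom x₁) +
      cinr (f ^ n • 𝟙 (koszulCx M (fs.map (· ^ n)))) q
        (f ^ (n - k) • ((koszulTrans M n₂ n hn₂ fs).f q).hom x₂), ?_⟩
    refine cone_ext (φ := un f (TC M fs)) (rfl : q + 1 = q + 1) ?_ ?_
    · refine (cfst_map _ _ (be_comm M n f fs (be M n fs)) _ _).trans ?_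
      rw [cfst_pair, trans_be_apply, h₁]
    · refine (csnd_map _ _ (be_comm M n f fs (be M n fs)) _).trans ?_
      rw [csnd_pair]
      change ((dv f n (TC M fs)).f q).hom (((un f (TC M fs)).f q).hom (((be M n fs).f q).hom
        (f ^ (n - k) • ((koszulTrans M n₂ n hn₂ fs).f q).hom x₂))) = _
      rw [map_smul, trans_be_apply, h₂, map_smul, ← ht, smul_smul, ← pow_add,
        Nat.sub_add_cancel hk, dv_eq_iff]

theorem be_inj (M : ModuleCat.{u} R) (fs : List R) (q : ℤ) (n : ℕ)
    (x : (koszulCx M (fs.map (· ^ n))).X q) (hx : ((be M n fs).f q).hom x = 0) :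
    ∃ (m : ℕ) (h : n ≤ m), ((koszulTrans M n m h fs).f q).hom x = 0 := by
  induction fs generalizing q n with
  | nil => exact ⟨n, le_rfl, hx⟩
  | cons f fs ih =>
    change (mappingCone (f ^ n • 𝟙 (koszulCx M (fs.map (· ^ n))))).X q at x
    have h1 : ((be M n fs).f (q + 1)).hom
        (cfst (f ^ n • 𝟙 (koszulCx M (fs.map (· ^ n)))) rfl x) = 0 := by
      refine (cfst_map (φ₂ := un f (TC M fs)) (be M n fs) _ (be_comm M n f fs (be M n fs))
        (rfl : q + 1 = q + 1) _).symm.trans ?_
      exact (congrArg _ hx).trans (map_zero _)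
    have h2 : ((dv f n (TC M fs)).f q).hom (((un f (TC M fs)).f q).hom (((be M n fs).f q).hom
        (csnd (f ^ n • 𝟙 (koszulCx M (fs.map (· ^ n)))) q x))) = 0 := by
      refine (csnd_map (φ₂ := un f (TC M fs)) (be M n fs)
        (be M n fs ≫ un f (TC M fs) ≫ dv f n (TC M fs)) (be_comm M n f fs (be M n fs))
        _).symm.trans ?_
      exact (congrArg _ hx).trans (map_zero _)
    rw [dv_eq_iff, smul_zero] at h2
    obtain ⟨s, ⟨k, rfl⟩, hk⟩ := (K171.Cech.mkLinearMap_eq_zero_iff (Submonoid.powers f)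
      ((TC M fs).X q) _).1 h2
    change f ^ k • ((be M n fs).f q).hom _ = 0 at hk
    rw [← map_smul] at hk
    obtain ⟨m₁, hm₁, h₁⟩ := ih _ _ _ h1
    obtain ⟨m₂, hm₂, h₂⟩ := ih _ _ _ hk
    let m := max m₁ (max m₂ (n + k))
    have hm1 : m₁ ≤ m := le_max_left _ _
    have hm2 : m₂ ≤ m := (le_max_left _ _).trans (le_max_right _ _)
    have hmk : n + k ≤ m := (le_max_right _ _).trans (le_max_right _ _)
    have hnm : n ≤ m := hm₁.trans hm1
    refine ⟨m, hnm, ?_⟩
    refine cone_ext (φ := f ^ m • 𝟙 (koszulCx M (fs.map (· ^ m))))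
      (c := ((koszulTrans M n m hnm (f :: fs)).f q).hom x) (c' := 0) (rfl : q + 1 = q + 1) ?_ ?_
    · refine (cfst_map _ _ _ _ _).trans ?_
      rw [map_zero, ← koszulTrans_comp_apply M hm₁ hm1, h₁, map_zero]
    · refine (csnd_map _ _ _ _).trans ?_
      rw [map_zero]
      change f ^ (m - n) • ((koszulTrans M n m hnm fs).f q).hom _ = 0
      have e : m - n = (m - n - k) + k := by omega
      rw [e, pow_add, mul_smul, ← map_smul _ (f ^ k), ← koszulTrans_comp_apply M hm₂ hm2]
      erw [h₂]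
      rw [map_zero, smul_zero]

/-- The direct limit of Koszul cohomology. -/
noncomputable def equivTC (fs : List R) (M : ModuleCat.{u} R) (p : ℕ) :
    koszulHLim fs M p ≃ₗ[R] (TC M fs).homology ((p : ℤ) - fs.length) :=
  LinearEquiv.ofBijective
    (limMap (fun n => koszulCx M (fs.map (· ^ n))) (fun n m h => koszulTrans M n m h fs)
      (TC M fs) (fun n => be M n fs) (fun n m h => trans_be M h fs) ((p : ℤ) - fs.length))
    (limMap_bijective _ _ _ _ _ (be_surj M fs) (be_inj M fs) _)

section Shift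

/-- Localisation commutes with shifts. -/
noncomputable def locShift (f : R) (K : DRing.Cx R) (r : ℤ) : lo f (K⟦r⟧) ≅ (lo f K)⟦r⟧ :=
  HomologicalComplex.Hom.isoOfComponents (fun _ => Iso.refl _) (by
    intro i j _
    have h : r.negOnePow • (locFunctor (Submonoid.powers f)).map (K.d (i + r) (j + r)) =
        (locFunctor (Submonoid.powers f)).map (r.negOnePow • K.d (i + r) (j + r)) := by
      rw [Units.smul_def, Units.smul_def, Functor.map_zsmul]
    refine (Category.id_comp _).trans (Eq.trans ?_ (Category.comp_id _).symm)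
    exact h)

lemma un_locShift (f : R) (K : DRing.Cx R) (r : ℤ) :
    un f (K⟦r⟧) ≫ (locShift f K r).hom = (un f K)⟦r⟧' := by
  ext i x
  rfl

/-- The iterated cone is the shifted extended Čech complex. -/
theorem nonempty_iso (M : ModuleCat.{u} R) (fs : List R) :
    Nonempty (TC M fs ≅ (extCech M fs)⟦(fs.length : ℤ)⟧) := by
  induction fs with
  | nil => exact ⟨(shiftFunctorZero (CochainComplex (ModuleCat.{u} R) ℤ) ℤ).symm.app _⟩
  | cons f fs ih =>
    obtain ⟨e⟩ := ih
    let C := extCech M fs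
    let r : ℤ := fs.length
    -- step 1
    have hc1 : un f (TC M fs) ≫ (locCx (Submonoid.powers f)).map e.hom ≫ (locShift f C r).hom =
        e.hom ≫ (un f C)⟦r⟧' := by
      have h1 : un f (TC M fs) ≫ (locCx (Submonoid.powers f)).map e.hom = e.hom ≫ un f (C⟦r⟧) := by
        ext i x
        exact congr($(((locUnit (Submonoid.powers f)).naturality (e.hom.f i)).symm).hom x)
      rw [← Category.assoc, h1, Category.assoc, un_locShift]
    let a : mappingCone (un f (TC M fs)) ⟶ mappingCone ((un f C)⟦r⟧') :=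
      mappingCone.map _ _ e.hom ((locCx (Submonoid.powers f)).map e.hom ≫ (locShift f C r).hom) hc1
    have hc2 : (un f C)⟦r⟧' ≫ (locShift f C r).inv ≫ (locCx (Submonoid.powers f)).map e.inv =
        e.inv ≫ un f (TC M fs) := by
      rw [← cancel_epi e.hom, e.hom_inv_id_assoc, ← Category.assoc e.hom, ← hc1]
      simp only [Category.assoc, Iso.hom_inv_id_assoc]
      rw [← Functor.map_comp, e.hom_inv_id, CategoryTheory.Functor.map_id, Category.comp_id]
    let b : mappingCone ((un f C)⟦r⟧') ⟶ mappingCone (un f (TC M fs)) :=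
      mappingCone.map _ _ e.inv ((locShift f C r).inv ≫ (locCx (Submonoid.powers f)).map e.inv) hc2
    have hab : a ≫ b = 𝟙 _ := by
      refine (mappingCone.map_comp _ _ _ _ _ _ _ _ _).symm.trans ?_
      have : mappingCone.map (un f (TC M fs)) (un f (TC M fs)) (𝟙 _) (𝟙 _)
        (by rw [Category.comp_id, Category.id_comp]) = 𝟙 _ := mappingCone.map_id _
      rw [← this]
      congr 1
      · exact e.hom_inv_id
      · simp only [Category.assoc, Iso.hom_inv_id_assoc]
        rw [← Functor.map_comp, e.hom_inv_id, CategoryTheory.Functor.map_id]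
    have hba : b ≫ a = 𝟙 _ := by
      refine (mappingCone.map_comp _ _ _ _ _ _ _ _ _).symm.trans ?_
      have : mappingCone.map ((un f C)⟦r⟧') ((un f C)⟦r⟧') (𝟙 _) (𝟙 _)
        (by rw [Category.comp_id, Category.id_comp]) = 𝟙 _ := mappingCone.map_id _
      rw [← this]
      congr 1
      · exact e.inv_hom_id
      · simp only [Category.assoc]
        rw [← Functor.map_comp_assoc, e.inv_hom_id, CategoryTheory.Functor.map_id, Category.id_comp,
          Iso.inv_hom_id]
    let i1 : TC M (f :: fs) ≅ mappingCone ((un f C)⟦r⟧') := ⟨a, b, hab, hba⟩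
    let i2 : mappingCone ((un f C)⟦r⟧') ≅ (mappingCone (un f C))⟦r⟧ :=
      (mappingCone.shiftIso (un f C) r).symm
    let i3 : (mappingCone (un f C))⟦r⟧ ≅ (extCech M (f :: fs))⟦((f :: fs).length : ℤ)⟧ :=
      (CategoryTheory.shiftFunctorAdd' (CochainComplex (ModuleCat.{u} R) ℤ) (-1) ((f :: fs).length : ℤ) r
        (by simp [r])).app (mappingCone (un f C))
    exact ⟨i1 ≪≫ i2 ≪≫ i3⟩

end Shift

/-- The direct limit of Koszul cohomology is the cohomology of the extended Čech complex. -/
theorem nonempty_equiv (fs : List R) (M : ModuleCat.{u} R) (p : ℕ) :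
    Nonempty (koszulHLim fs M p ≃ₗ[R] extCechH fs M p) := by
  obtain ⟨e⟩ := nonempty_iso M fs
  let e1 : (TC M fs).homology ((p : ℤ) - fs.length) ≅
      ((extCech M fs)⟦(fs.length : ℤ)⟧).homology ((p : ℤ) - fs.length) :=
    (HomologicalComplex.homologyFunctor (ModuleCat.{u} R) (ComplexShape.up ℤ)
      ((p : ℤ) - fs.length)).mapIso e
  let e2 : ((extCech M fs)⟦(fs.length : ℤ)⟧).homology ((p : ℤ) - fs.length) ≅
      (extCech M fs).homology p :=
    (CochainComplex.ShiftSequence.shiftIso (ModuleCat.{u} R) (fs.length : ℤ)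
      ((p : ℤ) - fs.length) p (by lia)).app (extCech M fs)
  exact ⟨equivTC fs M p ≪≫ₗ (e1 ≪≫ e2).toLinearEquiv⟩

end K162.KoszulLim
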