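import Groth.Agent.Sga2.FinReg
import Groth.Agent.Sga2.CMCodim
import Groth.Agent.Sga2.PnLCExt

/-!
# Local cohomology of stalks along immediate specializations, over quotients of regular rings

* `not_subsingleton_step` : `A` a quotient of a regular ring, `M` finite, `p ⋖ p'`; if `H^j_p(M_p) ≠ 0`
  then `H^{j+1}_{p'}(M_{p'}) ≠ 0`.
* `not_subsingleton_chain` : the same along a saturated chain.
* `exists_relCodim_eq` : `relCodim I p` is attained.
* `exists_chain_relCodim` : if `relCodim I p = c + 1` there is a saturated chain of length `c` from `p`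
  to some `p'` not containing `I`, covered by a prime containing `I`.
-/

set_option autoImplicit false
universe u

open IsLocalRing Groth.Agent.Ega4B.CatHeight

namespace K162.LCStep

theorem not_subsingleton_step (R : Type u) [CommRing R] [IsRegularRing R] (A : Type u) [CommRing A]
    [IsNoetherianRing A] (π : R →+* A) (hπ : Function.Surjective π) (M : Type u)
    [AddCommGroup M] [Module A M] [Module.Finite A M] {p p' : PrimeSpectrum A} (hpp : p ⋖ p')
    (j : ℕ)
    (h : ¬ Subsingleton (LocCoh.H (maximalIdeal (Localization.AtPrime p.asIdeal)) j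
      (LocalizedModule p.asIdeal.primeCompl M))) :
    ¬ Subsingleton (LocCoh.H (maximalIdeal (Localization.AtPrime p'.asIdeal)) (j + 1)
      (LocalizedModule p'.asIdeal.primeCompl M)) := by
  let _ : Algebra R A := π.toAlgebra
  let _ : Module R M := Module.compHom M π
  have ht : IsScalarTower R A M := by
    constructor
    intro a b x
    change (π a * b) • x = π a • (b • x)
    rw [mul_smul]
  have hfin : Module.Finite R M := by
    have : Module.Finite R A := Module.Finite.of_surjective (Algebra.linearMap R A) hπ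
    exact Module.Finite.trans A M
  have hle : ∀ x y : PrimeSpectrum A, PrimeSpectrum.comap π x ≤ PrimeSpectrum.comap π y ↔ x ≤ y := by
    intro x y
    constructor
    · intro hxy a ha
      obtain ⟨b, rfl⟩ := hπ a
      exact hxy ha
    · exact fun hxy => Ideal.comap_mono hxy
  have hlt : ∀ x y : PrimeSpectrum A, PrimeSpectrum.comap π x < PrimeSpectrum.comap π y ↔ x < y := by
    intro x y
    rw [lt_iff_le_not_ge, lt_iff_le_not_ge, hle, hle]
  have hPP : PrimeSpectrum.comap π p ⋖ PrimeSpectrum.comap π p' := by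
    refine ⟨(hlt _ _).2 hpp.1, fun C hC hC' => ?_⟩
    obtain ⟨c, rfl⟩ : ∃ c : PrimeSpectrum A, PrimeSpectrum.comap π c = C := by
      have hmem : C ∈ PrimeSpectrum.zeroLocus (RingHom.ker π : Set R) := by
        intro a ha
        refine hC.le ?_
        change π a ∈ p.asIdeal
        rw [RingHom.mem_ker.mp ha]
        exact zero_mem _
      rw [← range_comap_of_surjective A π hπ] at hmem
      exact hmem
    exact hpp.2 ((hlt p c).1 hC) ((hlt c p').1 hC')
  rw [← Groth.Agent.S2934.stalk_iff R A π hπ p (PrimeSpectrum.comap π p) rfl M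
    (fun _ _ => rfl) j] at h
  rw [← Groth.Agent.S2934.stalk_iff R A π hπ p' (PrimeSpectrum.comap π p') rfl M
    (fun _ _ => rfl) (j + 1)]
  generalize PrimeSpectrum.comap π p = P at h hPP
  generalize PrimeSpectrum.comap π p' = P' at hPP ⊢
  -- heights
  have hregP : IsRegularLocalRing (Localization.AtPrime P.asIdeal) :=
    IsRegularRing.isRegularLocalRing_localization P.asIdeal
  obtain ⟨r, hr⟩ := ENat.ne_top_iff_exists.mp
    (Ideal.height_ne_top_of_isPrime (I := P.asIdeal))
  have hjr : j ≤ r := by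
    by_contra hcon
    refine h (Groth.Agent.Sga2.PnLCExt.subsingleton_lc_of_lt (Localization.AtPrime P.asIdeal) r ?_
      _ j (by omega))
    rw [IsLocalization.AtPrime.ringKrullDim_eq_height P.asIdeal (Localization.AtPrime P.asIdeal),
      ← hr]
    rfl
  obtain ⟨e, rfl⟩ := Nat.exists_eq_add_of_le' hjr
  rw [Groth.Agent.Sga2.FinReg.subsingleton_H_iff_notMem_support R M P e j hr.symm, not_not] at h
  have hCM := Groth.Agent.Sga2.CMCodim.isCohenMacaulayRing_of_isRegularRing R
  have hht := Groth.Agent.Ega4A.CMCatenary.height_eq_of_covBy_of_isCohenMacaulayRing hPP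
  have hht' : P'.asIdeal.height = (e + (j + 1) : ℕ) := by
    rw [hht, ← hr]
    push_cast
    rw [add_assoc]
  rw [Groth.Agent.Sga2.FinReg.subsingleton_H_iff_notMem_support R M P' e (j + 1) hht', not_not]
  exact Module.mem_support_mono hPP.le h

/-- along a saturated chain -/
theorem not_subsingleton_chain (R : Type u) [CommRing R] [IsRegularRing R] (A : Type u) [CommRing A]
    [IsNoetherianRing A] (π : R →+* A) (hπ : Function.Surjective π) (M : Type u)
    [AddCommGroup M] [Module A M] [Module.Finite A M] (s : LTSeries (PrimeSpectrum A))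
    (hs : Sat s) (j : ℕ)
    (h : ¬ Subsingleton (LocCoh.H (maximalIdeal (Localization.AtPrime s.head.asIdeal)) j
      (LocalizedModule s.head.asIdeal.primeCompl M))) (k : ℕ) (hk : k < s.length + 1) :
    ¬ Subsingleton (LocCoh.H (maximalIdeal (Localization.AtPrime (s ⟨k, hk⟩).asIdeal)) (j + k)
      (LocalizedModule (s ⟨k, hk⟩).asIdeal.primeCompl M)) := by
  induction k with
  | zero => exact h
  | succ k ih =>
    have h1 := ih (by omega)
    have h2 := hs ⟨k, by omega⟩
    exact not_subsingleton_step R A π hπ M h2 (j + k) h1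

/-- The relative codimension is attained when it is finite. -/
theorem exists_relCodim_eq {A : Type u} [CommRing A] (I : Ideal A) (p : PrimeSpectrum A)
    (h : SGA2.relCodim I p ≠ ⊤) :
    ∃ q : PrimeSpectrum A, p ≤ q ∧ I ≤ q.asIdeal ∧ SGA2.relCodim I p = rlen p q := by
  have hne : Nonempty {q : PrimeSpectrum A // p ≤ q ∧ I ≤ q.asIdeal} := by
    by_contra hcon
    rw [not_nonempty_iff] at hcon
    exact h (iInf_of_empty _)
  obtain ⟨q, hq⟩ := ENat.exists_eq_iInf
    (fun q : {q : PrimeSpectrum A // p ≤ q ∧ I ≤ q.asIdeal} =>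
      Order.height (⟨q.1, q.2.1⟩ : Set.Ici p))
  refine ⟨q.1, q.2.1, q.2.2, ?_⟩
  rw [← height_Ici q.2.1]
  exact hq.symm

/-- If `relCodim I p` is finite and `I` is not contained in `p`, there are `p ≤ p' ⋖ q'` with
`I ≤ q'`, `¬ I ≤ p'` and `ht (p'/p) + 1 ≤ relCodim I p`. -/
theorem exists_covBy_relCodim {A : Type u} [CommRing A] [IsNoetherianRing A] (I : Ideal A)
    (p : PrimeSpectrum A) (hp : ¬ I ≤ p.asIdeal) (h : SGA2.relCodim I p ≠ ⊤) :
    ∃ p' q' : PrimeSpectrum A, p ≤ p' ∧ p' ⋖ q' ∧ ¬ I ≤ p'.asIdeal ∧ I ≤ q'.asIdeal ∧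
      rlen p p' + 1 ≤ SGA2.relCodim I p := by
  obtain ⟨q, hpq, hIq, hq⟩ := exists_relCodim_eq I p h
  obtain ⟨p', q', h1, h2, h3, h4, h5⟩ := Groth.Agent.Sga2.CMCodim.exists_covBy hpq hIq hp
  refine ⟨p', q', h1, h2, h4, h5, ?_⟩
  rw [hq, ← rlen_eq_one_of_covBy h2]
  refine (rlen_add_le h1 h2.le).trans ?_
  exact le_trans le_self_add (rlen_add_le (h1.trans h2.le) h3)

/-- A saturated chain of length `c + 1` from `p` to a prime containing `I`, whose last but one member
does not contain `I`, when `relCodim I p = c + 1`. -/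
theorem exists_sat_relCodim {A : Type u} [CommRing A] [IsNoetherianRing A] (I : Ideal A)
    (p : PrimeSpectrum A) (c : ℕ) (h : SGA2.relCodim I p = (c + 1 : ℕ)) :
    ∃ s : LTSeries (PrimeSpectrum A), s.head = p ∧ Sat s ∧ s.length = c + 1 ∧
      I ≤ s.last.asIdeal ∧ ∀ (k : ℕ) (hk : k < s.length + 1), k < c + 1 → ¬ I ≤ (s ⟨k, hk⟩).asIdeal := by
  obtain ⟨q, hpq, hIq, hq⟩ := exists_relCodim_eq I p (by rw [h]; exact ENat.natCast_ne_top _)
  obtain ⟨s, hs1, hs2, hs3, hs4⟩ := exists_sat hpq (rlen_ne_top p q)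
  have hlen : s.length = c + 1 := by
    have : (s.length : ℕ∞) = (c + 1 : ℕ) := by rw [hs3, ← hq, h]
    exact_mod_cast this
  refine ⟨s, hs1, hs4, hlen, by rw [hs2]; exact hIq, fun k hk hkc hI => ?_⟩
  -- otherwise the truncated chain shows the codimension is smaller
  have h1 : p ≤ s ⟨k, hk⟩ := by
    rw [← hs1]
    exact s.head_le _
  have h2 := Groth.Agent.Sga2.CMCodim.relCodim_le h1 hI
  have h3 : s ⟨k, hk⟩ < q := by
    rw [← hs2]
    exact s.strictMono (by
      change (⟨k, hk⟩ : Fin (s.length + 1)) < Fin.last _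
      rw [Fin.lt_def]
      simp only [Fin.val_last]
      omega)
  have h4 := rlen_add_le h1 h3.le
  have h5 := one_le_rlen h3
  rw [← hq] at h4
  have h6 : SGA2.relCodim I p + 1 ≤ SGA2.relCodim I p :=
    (add_le_add h2 h5).trans h4
  rw [h] at h6
  have h7 : c + 1 + 1 ≤ c + 1 := by exact_mod_cast h6
  omega

end K162.LCStep
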